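import Cfsg.Agent.H10.HeT.H2.RChk0

set_option autoImplicit false
set_option linter.all false

namespace Cfsg.Agent.H10.HeT

open Cfsg.Agent.H35 Cfsg.Spor

theorem h2_rall : ∀ p, p < 672 → h2_rf p = true := by
  apply allR_blocks h2_rf 672 10 1 _ (by decide)
  intro k hk
  interval_cases k
  · exact h2_rchk_0

theorem h2_circ_ok : circChk (fullW h2_rws h2_prels) h2_circT 0 h2_ccert = true := by decide +kernel
theorem h2_hc_ok : allR (fun c => hcChk h2_rsw h2_hc1T h2_hc2T c) 4 2 0 = true := by decide +kernel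
theorem h2_h0 : RData.aord (h2_rd.ent 0 1) = 0 := by decide +kernel

end Cfsg.Agent.H10.HeT
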